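import Groth.Agent.Lib.Spectral.Basic
import Groth.Agent.Lib.Spectral.Constructible
import Mathlib.AlgebraicGeometry.IdealSheaf.Subscheme
import Mathlib.AlgebraicGeometry.Morphisms.Immersion

/-!
Partitions into constructible locally closed strata from a pointwise criterion.
-/

set_option autoImplicit false
set_option linter.style.haveILetI false

universe u

open CategoryTheory CategoryTheory.Limits AlgebraicGeometry Topology

noncomputable section

namespace Groth.Agent.H88.Strata

/-- A locally closed subset of a scheme is the range of an immersion. -/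
theorem exists_immersion_range {X : Scheme.{u}} {L : Set X} (hL : IsLocallyClosed L) :
    ∃ (T : Scheme.{u}) (h : T ⟶ X), IsImmersion h ∧ Set.range h.base = L := by
  obtain ⟨O, Z, hO, hZ, rfl⟩ := hL
  let O' : X.Opens := ⟨O, hO⟩
  let C : TopologicalSpace.Closeds ↥(O' : Scheme.{u}) :=
    ⟨O'.ι.base ⁻¹' Z, hZ.preimage O'.ι.continuous⟩
  let J := Scheme.IdealSheafData.vanishingIdeal (X := (O' : Scheme.{u})) C
  refine ⟨J.subscheme, J.subschemeι ≫ O'.ι, inferInstance, ?_⟩
  rw [Scheme.Hom.comp_base, TopCat.coe_comp, Set.range_comp]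
  erw [Scheme.IdealSheafData.range_subschemeι, Scheme.IdealSheafData.coe_support_vanishingIdeal]
  change O'.ι.base '' (O'.ι.base ⁻¹' Z) = O ∩ Z
  rw [Set.image_preimage_eq_inter_range, Set.inter_comm]
  exact congrArg (· ∩ Z) O'.range_ι

section Saturated

variable {α : Type*} [TopologicalSpace α]

/-- A constructible set is determined by membership in finitely many retrocompact opens. -/
theorem exists_saturating {C : Set α} (hC : IsConstructible C) :
    ∃ t : Finset (Set α), (∀ W ∈ t, IsOpen W ∧ IsRetrocompact W) ∧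
      ∀ x y, (∀ W ∈ t, x ∈ W ↔ y ∈ W) → x ∈ C → y ∈ C := by
  classical
  refine Lib.Spectral.Constructible.diffUnion_induction (P := fun C => ∃ t : Finset (Set α),
    (∀ W ∈ t, IsOpen W ∧ IsRetrocompact W) ∧ ∀ x y, (∀ W ∈ t, x ∈ W ↔ y ∈ W) → x ∈ C → y ∈ C) hC
    (fun U V hUo hU hVo hV => ?_)
    fun s t _ _ ⟨a, ha, ha'⟩ ⟨b, hb, hb'⟩ => ?_
  · refine ⟨{U, V}, fun W hW => ?_, fun x y h hx => ?_⟩
    · rcases Finset.mem_insert.1 hW with rfl | hW
      · exact ⟨hUo, hU⟩
      · rw [Finset.mem_singleton] at hW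
        exact hW ▸ ⟨hVo, hV⟩
    · exact ⟨(h U (by simp)).1 hx.1, fun hy => hx.2 ((h V (by simp)).2 hy)⟩
  · refine ⟨a ∪ b, fun W hW => (Finset.mem_union.1 hW).elim (ha W) (hb W), fun x y h hx => ?_⟩
    exact hx.imp (ha' x y fun W hW => h W (Finset.mem_union_left _ hW))
      (hb' x y fun W hW => h W (Finset.mem_union_right _ hW))

end Saturated

variable {X : Scheme.{u}}

/-- A quasi-compact quasi-separated open of `X` has a finite partition into constructible locally closed
strata with a property stable under restriction along immersions, as soon as every point has a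
constructible neighbourhood inside such a stratum. -/
theorem exists_partition (S : X.Opens) [CompactSpace (S : Scheme.{u})]
    [QuasiSeparatedSpace (S : Scheme.{u})] (P : ∀ {T : Scheme.{u}}, (T ⟶ X) → Prop)
    (hP : ∀ {T T' : Scheme.{u}} (h : T' ⟶ T) (g : T ⟶ X), IsImmersion h → P g → P (h ≫ g))
    (hpt : ∀ y : ↥(S : Set X), ∃ (C : Set ↥(S : Set X)) (T : Scheme.{u}) (g : T ⟶ X),
      IsConstructible C ∧ y ∈ C ∧ IsImmersion g ∧ Subtype.val '' C ⊆ Set.range g ∧ P g) :
    ∃ (n : ℕ) (T : Fin n → Scheme.{u}) (g : ∀ i, T i ⟶ X),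
      (∀ i, IsImmersion (g i)) ∧
      (∀ i, IsConstructible ((Subtype.val : ↥(S : Set X) → X) ⁻¹' Set.range (g i))) ∧
      Pairwise (fun i j => Disjoint (Set.range (g i)) (Set.range (g j))) ∧
      (⋃ i, Set.range (g i)) = (S : Set X) ∧
      ∀ i, P (g i) := by
  classical
  haveI : CompactSpace ↥(S : Set X) := ‹CompactSpace (S : Scheme.{u})›
  haveI : QuasiSober ↥(S : Set X) := inferInstanceAs (QuasiSober (S : Scheme.{u}))
  haveI : PrespectralSpace ↥(S : Set X) := inferInstanceAs (PrespectralSpace (S : Scheme.{u}))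
  haveI : QuasiSeparatedSpace ↥(S : Set X) := ‹QuasiSeparatedSpace (S : Scheme.{u})›
  haveI : SpectralSpace ↥(S : Set X) := {}
  choose C T g hC hyC hg hCg hPg using hpt
  obtain ⟨t, ht⟩ := @IsCompact.elim_finite_subcover ↥(S : Set X) (constructibleTopology _) Set.univ _
    (@isCompact_univ _ (constructibleTopology _) Lib.Spectral.Basic.compactSpace_cons)
    C (fun y => (Lib.Spectral.Basic.isClopen_cons_of_isConstructible (hC y)).2)
    (fun y _ => Set.mem_iUnion.2 ⟨y, hyC y⟩)
  choose w hw hw' using fun y => exists_saturating (hC y)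
  let 𝒰 : Finset (Set ↥(S : Set X)) := t.biUnion w
  have h𝒰 : ∀ W ∈ 𝒰, IsOpen W ∧ IsRetrocompact W := fun W hW => by
    obtain ⟨y, -, hy⟩ := Finset.mem_biUnion.1 hW
    exact hw y W hy
  let U : {W // W ∈ 𝒰} → Set ↥(S : Set X) := Subtype.val
  let atom := Lib.Spectral.Constructible.atom U
  let I := {s : Set {W // W ∈ 𝒰} // (atom s).Nonempty}
  have hatom : ∀ s, IsConstructible (atom s) := fun s => by
    change IsConstructible (Lib.Spectral.Constructible.atom U s)
    rw [Lib.Spectral.Constructible.atom_eq_inter]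
    refine IsConstructible.inter ?_ ?_
    · exact IsConstructible.biInter s.toFinite fun i _ =>
        (h𝒰 _ i.2).2.isConstructible (h𝒰 _ i.2).1
    · exact IsConstructible.biInter sᶜ.toFinite fun i _ =>
        ((h𝒰 _ i.2).2.isConstructible (h𝒰 _ i.2).1).compl
  have hlc : ∀ s, IsLocallyClosed (Subtype.val '' atom s) := fun s =>
    (Lib.Spectral.Constructible.isLocallyClosed_atom U (fun i => (h𝒰 _ i.2).1) s).image
      IsInducing.subtypeVal (by rw [Subtype.range_coe]; exact S.2.isLocallyClosed)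
  have key : ∀ i : I, ∃ (T' : Scheme.{u}) (g' : T' ⟶ X), IsImmersion g' ∧
      Set.range g'.base = Subtype.val '' atom i.1 ∧ P g' := by
    rintro ⟨s, x, hx⟩
    obtain ⟨y, hyt, hxy⟩ := Set.mem_iUnion₂.1 (ht (Set.mem_univ x))
    haveI := hg y
    obtain ⟨T', h, hh, hr⟩ := exists_immersion_range ((hlc s).preimage (g y).continuous)
    refine ⟨T', h ≫ g y, inferInstance, ?_, hP h (g y) hh (hPg y)⟩
    rw [Scheme.Hom.comp_base, TopCat.coe_comp, Set.range_comp, hr,
      Set.image_preimage_eq_inter_range]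
    refine Set.inter_eq_left.2 (Set.image_subset_iff.2 fun z hz => ?_)
    refine hCg y ⟨z, hw' y x z (fun W hW => ?_) hxy, rfl⟩
    let i : {W // W ∈ 𝒰} := ⟨W, Finset.mem_biUnion.2 ⟨y, hyt, hW⟩⟩
    exact (hx i).trans (hz i).symm
  choose T' g' hg' hr' hP' using key
  haveI : Fintype I := Fintype.ofFinite I
  let e := Fintype.equivFin I
  refine ⟨_, fun i => T' (e.symm i), fun i => g' (e.symm i), fun i => hg' _, fun i => ?_, ?_, ?_,
    fun i => hP' _⟩
  · rw [hr', Set.preimage_image_eq _ Subtype.val_injective]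
    exact hatom _
  · intro i j hij
    rw [hr', hr', Set.disjoint_image_iff Subtype.val_injective, Set.disjoint_left]
    intro x hi hj
    exact hij (e.symm.injective (Subtype.ext (Set.ext fun k => (hi k).symm.trans (hj k))))
  · apply Set.Subset.antisymm
    · refine Set.iUnion_subset fun i => ?_
      rw [hr']
      exact Subtype.coe_image_subset _ _
    · intro x hx
      let y : ↥(S : Set X) := ⟨x, hx⟩
      let i : I := ⟨_, y, Lib.Spectral.Constructible.mem_atom U y⟩
      refine Set.mem_iUnion.2 ⟨e i, ?_⟩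
      rw [hr', Equiv.symm_apply_apply]
      exact ⟨y, Lib.Spectral.Constructible.mem_atom U y, rfl⟩

/-- The trace of a constructible subset of an affine open along a morphism. -/
theorem exists_constructible_nhd {Y : Scheme.{u}} (f : X ⟶ Y) {U : X.Opens} (hU : IsAffineOpen U)
    {V : Y.Opens} (hV : IsAffineOpen V) {A : Set Y}
    (hA : IsConstructible ((Subtype.val : ↥(V : Set Y) → Y) ⁻¹' A)) (y : ↥(U : Set X))
    (hyV : f.base y.1 ∈ V) (hyA : f.base y.1 ∈ A) :
    ∃ C : Set ↥(U : Set X), IsConstructible C ∧ y ∈ C ∧ ∀ z ∈ C, f.base z.1 ∈ A := by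
  haveI : IsAffine (U : Scheme.{u}) := hU
  haveI : IsAffine (V : Scheme.{u}) := hV
  haveI : CompactSpace ↥(U : Set X) := inferInstanceAs (CompactSpace (U : Scheme.{u}))
  haveI : QuasiSeparatedSpace ↥(U : Set X) := inferInstanceAs (QuasiSeparatedSpace (U : Scheme.{u}))
  haveI : PrespectralSpace ↥(U : Set X) := inferInstanceAs (PrespectralSpace (U : Scheme.{u}))
  haveI : CompactSpace ↥(V : Set Y) := inferInstanceAs (CompactSpace (V : Scheme.{u}))
  obtain ⟨_, ⟨(U' : X.Opens), hU', rfl⟩, hyU', hU'le⟩ :=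
    X.isBasis_affineOpens.exists_subset_of_mem_open (show y.1 ∈ ((U ⊓ f ⁻¹ᵁ V : X.Opens) : Set X)
      from ⟨y.2, hyV⟩) (U ⊓ f ⁻¹ᵁ V).2
  let E : Set ↥(U : Set X) := Subtype.val ⁻¹' (U' : Set X)
  have hEo : IsOpen E := U'.2.preimage continuous_subtype_val
  have hEc : IsCompact E := by
    rw [IsEmbedding.subtypeVal.isCompact_iff, Subtype.image_preimage_coe,
      Set.inter_eq_right.2 fun z hz => (hU'le hz).1]
    exact hU'.isCompact
  have hEcons : IsConstructible E := (hEc.isRetrocompact hEo).isConstructible hEo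
  haveI : CompactSpace E := isCompact_iff_compactSpace.1 hEc
  haveI : QuasiSeparatedSpace E :=
    hEo.isOpenEmbedding_subtypeVal.quasiSeparatedSpace
  let q : E → ↥(V : Set Y) := fun z => ⟨f.base z.1.1, (hU'le z.2).2⟩
  have hq : Continuous q :=
    ((f.continuous.comp continuous_subtype_val).comp continuous_subtype_val).subtype_mk _
  have hqc : IsConstructible (q ⁻¹' (Subtype.val ⁻¹' A)) := by
    refine hA.preimage hq fun s hso hs => ?_
    have hsc : IsCompact s := hs.isCompact
    refine IsCompact.isRetrocompact ?_ (hso.preimage hq)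
    let h : (U' : Scheme.{u}) ⟶ (V : Scheme.{u}) := f.resLE V U' fun z hz => (hU'le hz).2
    haveI : IsAffine (U' : Scheme.{u}) := hU'
    have hc : IsCompact (h.base ⁻¹' s) := QuasiCompact.isCompact_preimage _ hso hsc
    let ρ : E → ↥(U' : Set X) := fun z => ⟨z.1.1, z.2⟩
    have hρ : IsInducing ρ :=
      IsInducing.of_comp ((continuous_subtype_val.comp continuous_subtype_val).subtype_mk _)
        continuous_subtype_val
        ((IsInducing.subtypeVal (Y := X) (t := (U : Set X))).comp (IsInducing.subtypeVal (t := E)))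
    have : q ⁻¹' s = ρ ⁻¹' (h.base ⁻¹' s) := by
      ext z
      change q z ∈ s ↔ h.base (ρ z) ∈ s
      congr! 1
      apply Subtype.ext
      exact (congrArg (fun k => k.base (ρ z)) (Scheme.Hom.resLE_comp_ι f _)).symm
    rw [this, hρ.isCompact_iff, Set.image_preimage_eq _ fun z => ⟨⟨⟨z.1, (hU'le z.2).1⟩, z.2⟩, rfl⟩]
    exact hc
  refine ⟨Subtype.val '' (q ⁻¹' (Subtype.val ⁻¹' A)),
    Lib.Spectral.Constructible.image_val hEcons hqc, ⟨⟨y, hyU'⟩, hyA, rfl⟩, ?_⟩
  rintro _ ⟨z, hz, rfl⟩
  exact hz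

end Groth.Agent.H88.Strata
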