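import Groth.Agent.H88.Strata.Basic
import Groth.Agent.Lib.EtSite.Fiber
import Groth.Agent.Lib.EtSite.PushStalk
import Groth.Agent.Lib.ActSep.Criterion
import Groth.Agent.H54.GeomLift
import Groth.Agent.H54.EtaleSep
import Mathlib.AlgebraicGeometry.Morphisms.QuasiSeparated
import Mathlib.AlgebraicGeometry.Morphisms.QuasiFinite
import Mathlib.AlgebraicGeometry.Morphisms.Separated

/-!
Strata over which a separated quasi-compact étale morphism splits étale locally.
-/

set_option autoImplicit false
set_option linter.style.haveILetI false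

universe u

open CategoryTheory CategoryTheory.Limits AlgebraicGeometry Topology Opposite

noncomputable section

namespace Groth.Agent.H88.Strata.Split

open Groth.Agent.Lib.EtSite Groth.Agent.Lib.EtSite.Basic

variable {X : Scheme.{u}}

/-- Finitely many fibre points come from morphisms out of one neighbourhood. -/
theorem exists_sections {Ω : Type u} [Field Ω] [IsSepClosed Ω] (ξ : Spec (CommRingCat.of Ω) ⟶ X)
    {V U : X.Etale} (u : (Scheme.pointSmallEtale ξ).fiber.obj U) {ι : Type*} [Finite ι]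
    (q : ι → (Scheme.pointSmallEtale ξ).fiber.obj V) :
    ∃ (W : X.Etale) (b : W ⟶ U) (p : (Scheme.pointSmallEtale ξ).fiber.obj W) (a : ι → (W ⟶ V)),
      (Scheme.pointSmallEtale ξ).fiber.map b p = u ∧ ∀ i, (Scheme.pointSmallEtale ξ).fiber.map (a i) p = q i := by
  classical
  obtain ⟨_⟩ := nonempty_fintype ι
  suffices key : ∀ s : Finset ι, ∃ (W : X.Etale) (b : W ⟶ U) (p : (Scheme.pointSmallEtale ξ).fiber.obj W),
      (Scheme.pointSmallEtale ξ).fiber.map b p = u ∧
        ∀ i ∈ s, ∃ a : W ⟶ V, (Scheme.pointSmallEtale ξ).fiber.map a p = q i by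
    obtain ⟨W, b, p, hb, h⟩ := key Finset.univ
    choose a ha using fun i => h i (Finset.mem_univ i)
    exact ⟨W, b, p, a, hb, ha⟩
  intro s
  induction s using Finset.induction with
  | empty => exact ⟨U, 𝟙 U, u, by simp, by simp⟩
  | insert k s hk ih =>
    obtain ⟨W, b, p, hb, h⟩ := ih
    let m := IsCofiltered.min ((Scheme.pointSmallEtale ξ).fiber.elementsMk W p)
      ((Scheme.pointSmallEtale ξ).fiber.elementsMk V (q k))
    let c : m ⟶ (Scheme.pointSmallEtale ξ).fiber.elementsMk W p := IsCofiltered.minToLeft _ _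
    let d : m ⟶ (Scheme.pointSmallEtale ξ).fiber.elementsMk V (q k) := IsCofiltered.minToRight _ _
    have hc : (Scheme.pointSmallEtale ξ).fiber.map c.1 m.2 = p := c.2
    refine ⟨m.1, c.1 ≫ b, m.2, by simp [hc, hb], fun i hi => ?_⟩
    rcases Finset.mem_insert.1 hi with rfl | hi
    · exact ⟨d.1, d.2⟩
    · obtain ⟨a, ha⟩ := h i hi
      exact ⟨c.1 ≫ a, by simp [hc, ha]⟩

variable {W V : X.Etale}

/-- The graph of a morphism of étale schemes. -/
def graph (a : W ⟶ V) : W.left ⟶ pullback W.hom V.hom :=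
  pullback.lift (𝟙 _) a.left ((Category.id_comp _).trans (Over.w a.hom).symm)

@[reassoc]
theorem graph_fst (a : W ⟶ V) : graph a ≫ pullback.fst W.hom V.hom = 𝟙 _ := pullback.lift_fst _ _ _

theorem graph_snd (a : W ⟶ V) : graph a ≫ pullback.snd W.hom V.hom = a.left := pullback.lift_snd _ _ _

instance isClosedImmersion_graph [IsSeparated V.hom] (a : W ⟶ V) : IsClosedImmersion (graph a) := by
  haveI : IsSeparated (pullback.fst W.hom V.hom) := MorphismProperty.pullback_fst _ _ ‹_›
  haveI : IsClosedImmersion (graph a ≫ pullback.fst W.hom V.hom) := by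
    rw [graph_fst]; infer_instance
  exact IsClosedImmersion.of_comp (graph a) (pullback.fst W.hom V.hom)

theorem isOpen_range_graph (a : W ⟶ V) : IsOpen (Set.range (graph a).base) := by
  haveI : Etale V.hom := V.prop
  haveI : Etale (graph a) := by
    refine MorphismProperty.of_postcomp @Etale (graph a) (pullback.fst W.hom V.hom)
      (MorphismProperty.pullback_fst _ _ V.prop) ?_
    rw [graph_fst]; infer_instance
  exact (graph a).isOpenMap.isOpen_range

variable {Ω : Type u} [Field Ω] [IsSepClosed Ω] {ξ : Spec (CommRingCat.of Ω) ⟶ X}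

/-- The point of the product of two fibre points. -/
def pairPt (p : (Scheme.pointSmallEtale ξ).fiber.obj W) (q : (Scheme.pointSmallEtale ξ).fiber.obj V) :
    Spec (CommRingCat.of Ω) ⟶ pullback W.hom V.hom :=
  pullback.lift (fiberHom p) (fiberHom q) ((fiberHom_comp p).trans (fiberHom_comp q).symm)

theorem map_eq_iff [IsSeparated V.hom] (a : W ⟶ V) (p : (Scheme.pointSmallEtale ξ).fiber.obj W)
    (q : (Scheme.pointSmallEtale ξ).fiber.obj V) :
    (Scheme.pointSmallEtale ξ).fiber.map a p = q ↔ (pairPt p q).base default ∈ Set.range (graph a).base := by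
  constructor
  · rintro rfl
    have : pairPt p ((Scheme.pointSmallEtale ξ).fiber.map a p) = fiberHom p ≫ graph a := by
      apply pullback.hom_ext
      · rw [Category.assoc, graph_fst]
        exact (pullback.lift_fst _ _ _).trans (Category.comp_id _).symm
      · rw [Category.assoc, graph_snd]
        exact pullback.lift_snd _ _ _
    rw [this]
    exact ⟨_, rfl⟩
  · intro h
    obtain ⟨l, hl⟩ := Groth.Agent.Lib.ActSep.Criterion.exists_lift_of_isImmersion (pairPt p q) (graph a) (by
      rintro _ ⟨z, rfl⟩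
      rwa [Subsingleton.elim z default])
    have hl1 : l = fiberHom p := by
      have := congrArg (· ≫ pullback.fst W.hom V.hom) hl
      simp only [Category.assoc, graph_fst, Category.comp_id] at this
      exact this.trans (pullback.lift_fst _ _ _)
    apply Over.OverMorphism.ext
    have := congrArg (· ≫ pullback.snd W.hom V.hom) hl
    simp only [Category.assoc, graph_snd, hl1] at this
    exact this.trans (pullback.lift_snd _ _ _)

theorem pairPt_fst (p : (Scheme.pointSmallEtale ξ).fiber.obj W) (q : (Scheme.pointSmallEtale ξ).fiber.obj V) :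
    (pullback.fst W.hom V.hom).base ((pairPt p q).base default) = fiberPt p :=
  (Scheme.Hom.comp_apply _ _ _).symm.trans
    (congrArg (fun k : Spec (CommRingCat.of Ω) ⟶ W.left => k.base default) (pullback.lift_fst _ _ _))

theorem pairPt_map (a b : W ⟶ V) (p : (Scheme.pointSmallEtale ξ).fiber.obj W) :
    (pairPt p ((Scheme.pointSmallEtale ξ).fiber.map b p)).base default = (graph b).base (fiberPt p) := by
  have : pairPt p ((Scheme.pointSmallEtale ξ).fiber.map b p) = fiberHom p ≫ graph b := by
    apply pullback.hom_ext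
    · rw [Category.assoc, graph_fst]
      exact (pullback.lift_fst _ _ _).trans (Category.comp_id _).symm
    · rw [Category.assoc, graph_snd]
      exact pullback.lift_snd _ _ _
  rw [this]
  rfl

variable {ι : Type*}

/-- Where the morphisms give different fibre points. -/
def distinctLocus (a : ι → (W ⟶ V)) : Set W.left :=
  {w | ∀ i j, i ≠ j → (graph (a j)).base w ∉ Set.range (graph (a i)).base}

theorem isOpen_distinctLocus [IsSeparated V.hom] [Finite ι] (a : ι → (W ⟶ V)) :
    IsOpen (distinctLocus a) := by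
  have : distinctLocus a =
      ⋂ i, ⋂ j, ⋂ _ : i ≠ j, (graph (a j)).base ⁻¹' (Set.range (graph (a i)).base)ᶜ := by
    ext w
    simp only [distinctLocus, Set.mem_iInter]
    rfl
  rw [this]
  exact isOpen_iInter_of_finite fun i => isOpen_iInter_of_finite fun j => isOpen_iInter_of_finite
    fun _ => (graph (a i)).isClosedEmbedding.isClosed_range.isOpen_compl.preimage (graph (a j)).continuous

theorem injective_iff [IsSeparated V.hom] (a : ι → (W ⟶ V)) (p : (Scheme.pointSmallEtale ξ).fiber.obj W) :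
    Function.Injective (fun i => (Scheme.pointSmallEtale ξ).fiber.map (a i) p) ↔
      fiberPt p ∈ distinctLocus a := by
  constructor
  · intro h i j hij hmem
    refine hij (h ?_)
    refine (map_eq_iff (a i) p _).2 ?_
    rw [pairPt_map (a j) (a j)]
    exact hmem
  · intro h i j hij
    by_contra hne
    refine h i j hne ?_
    rw [← pairPt_map (a j) (a j)]
    exact (map_eq_iff (a i) p _).1 hij

/-- Where some fibre point is missed. -/
def missLocus (a : ι → (W ⟶ V)) : Set W.left :=
  (pullback.fst W.hom V.hom).base '' (⋃ i, Set.range (graph (a i)).base)ᶜ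

theorem surjective_of_not_mem_missLocus [IsSeparated V.hom] (a : ι → (W ⟶ V))
    (p : (Scheme.pointSmallEtale ξ).fiber.obj W) (h : fiberPt p ∉ missLocus a) :
    Function.Surjective (fun i => (Scheme.pointSmallEtale ξ).fiber.map (a i) p) := by
  intro q
  by_contra hne
  refine h ⟨_, fun hmem => hne ?_, pairPt_fst p q⟩
  obtain ⟨i, hi⟩ := Set.mem_iUnion.1 hmem
  exact ⟨i, (map_eq_iff (a i) p q).2 hi⟩

theorem finite_fiber [QuasiCompact V.hom] {k : Type u} [Field k] [IsAlgClosed k]
    (η : Spec (CommRingCat.of k) ⟶ X) : Finite ((Scheme.pointSmallEtale η).fiber.obj V) := by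
  haveI : Etale V.hom := V.prop
  haveI : LocallyQuasiFinite V.hom :=
    Groth.Agent.H54.EtaleSep.locallyQuasiFinite_of_formallyUnramified V.hom
  haveI : Finite (Groth.Agent.H54.GeomLift.Lift V.hom η) :=
    Groth.Agent.H54.GeomLift.finite_lift V.hom η (V.hom.finite_preimage_singleton _)
  let f : (Scheme.pointSmallEtale η).fiber.obj V → Groth.Agent.H54.GeomLift.Lift V.hom η :=
    fun q => ⟨fiberHom q, fiberHom_comp q⟩
  exact Finite.of_injective f fun q q' h => Over.OverMorphism.ext (congrArg Subtype.val h)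

/-- All geometric fibres over the set have the given cardinality. -/
def FibCard (V : X.Etale) (C : Set X) (n : ℕ) : Prop :=
  ∀ (Ω : Type u) [Field Ω] [IsSepClosed Ω] (ξ : Spec (CommRingCat.of Ω) ⟶ X), ξ.base default ∈ C →
    Nonempty (Fin n ≃ (Scheme.pointSmallEtale ξ).fiber.obj V)

/-- Around each point of an affine scheme the geometric fibres have constant cardinality on a
constructible set. -/
theorem exists_fibCard [IsAffine X] (V : X.Etale) [IsSeparated V.hom] [QuasiCompact V.hom] (x : X) :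
    ∃ (C : Set X) (n : ℕ), IsConstructible C ∧ x ∈ C ∧ FibCard V C n := by
  classical
  obtain ⟨k, _, _, η, hη⟩ := Groth.Agent.H54.GeomLift.exists_pt_eq x
  haveI := finite_fiber (V := V) η
  obtain ⟨e⟩ : Nonempty (Fin (Nat.card ((Scheme.pointSmallEtale η).fiber.obj V)) ≃ _) :=
    ⟨(Finite.equivFin ((Scheme.pointSmallEtale η).fiber.obj V)).symm⟩
  obtain ⟨u, -⟩ := exists_fiber η (EtCoh.top X) (η.base default) rfl
  obtain ⟨W₀, b₀, p₀, a₀, -, ha₀⟩ := exists_sections η u e
  obtain ⟨_, ⟨(O : W₀.left.Opens), hO, rfl⟩, hpO, -⟩ :=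
    W₀.left.isBasis_affineOpens.exists_subset_of_mem_open (Set.mem_univ (fiberPt p₀)) isOpen_univ
  haveI : Etale W₀.hom := W₀.prop
  let W : X.Etale := Scheme.Etale.mk (O.ι ≫ W₀.hom)
  let j : W ⟶ W₀ := MorphismProperty.Over.homMk O.ι rfl
  obtain ⟨p, hp, hpt⟩ := Fiber.exists_fiber_map η j p₀ ⟨fiberPt p₀, hpO⟩ rfl
  let a := fun i => j ≫ a₀ i
  have ha : ∀ i, (Scheme.pointSmallEtale η).fiber.map (a i) p = e i := fun i => by
    simp [a, hp, ha₀]
  haveI : IsAffine W.left := hO
  haveI : IsAffine ((𝟭 Scheme).obj W.left) := hO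
  haveI : IsAffine (O : Scheme.{u}) := hO
  haveI : QuasiSeparatedSpace ↥((𝟭 Scheme).obj W.left) :=
    inferInstanceAs (QuasiSeparatedSpace (O : Scheme.{u}))
  haveI : IsAffine ((Functor.fromPUnit X).obj W.right) := ‹IsAffine X›
  haveI : QuasiCompact W.hom := inferInstance
  haveI : QuasiCompact (pullback.fst W.hom V.hom) := inferInstance
  haveI : QuasiSeparated (pullback.fst W.hom V.hom) := inferInstance
  haveI : CompactSpace ↥(pullback W.hom V.hom) :=
    (quasiCompact_iff_compactSpace (pullback.fst W.hom V.hom)).mp inferInstance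
  haveI : QuasiSeparatedSpace ↥(pullback W.hom V.hom) :=
    quasiSeparatedSpace_of_quasiSeparated (pullback.fst W.hom V.hom)
  haveI : SpectralSpace ↥(pullback W.hom V.hom) := {}
  haveI : SpectralSpace W.left := {}
  let G : Set W.left := (missLocus a)ᶜ ∩ distinctLocus a
  have hG : IsOpen[constructibleTopology W.left] G :=
    @IsOpen.inter _ (constructibleTopology _) _ _
      ((@isOpen_compl_iff _ _ (constructibleTopology _)).mpr
        (Lib.Spectral.Basic.isClosed_cons_image (quasiCompact_iff_isSpectralMap.mp inferInstance)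
          (Lib.Spectral.Basic.isClosed_cons_of_isClosed
            (isOpen_iUnion fun i => isOpen_range_graph (a i)).isClosed_compl)))
      (Lib.Spectral.Basic.isOpen_cons_of_isOpen (isOpen_distinctLocus a))
  have hpG : fiberPt p ∈ G := by
    refine ⟨?_, (injective_iff a p).1 fun i i' h => e.injective ((ha i).symm.trans (h.trans (ha i')))⟩
    rintro ⟨z, hz, hzp⟩
    obtain ⟨l, hl, hlz⟩ := Scheme.exists_fac_of_etale_of_isSepClosed (pullback.fst W.hom V.hom)
      (fiberHom p) z hzp
    let q : (Scheme.pointSmallEtale η).fiber.obj V := mkFiber η V (l ≫ pullback.snd W.hom V.hom)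
      ((Category.assoc _ _ _).trans ((_ ≫= pullback.condition.symm).trans
        ((Category.assoc _ _ _).symm.trans ((congrArg (· ≫ W.hom) hl).trans (fiberHom_comp p)))))
    obtain ⟨i, hi⟩ := e.surjective q
    refine hz (Set.mem_iUnion.2 ⟨i, ?_⟩)
    have := (map_eq_iff (a i) p q).1 ((ha i).trans hi)
    have hpair : pairPt p q = l := pullback.hom_ext
      ((pullback.lift_fst _ _ _).trans hl.symm) (pullback.lift_snd _ _ _)
    rw [hpair] at this
    rwa [show l.base default = z from hlz] at this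
  obtain ⟨C, hC, hpC, hCG⟩ := Lib.Spectral.Basic.exists_isConstructible_subset hG hpG
  refine ⟨W.hom.base '' C, Nat.card ((Scheme.pointSmallEtale η).fiber.obj V), W.hom.isConstructible_image hC,
    ⟨fiberPt p, hpC, (hom_fiberPt p).trans ((congrArg η.base (Subsingleton.elim _ _)).trans hη)⟩, ?_⟩
  rintro Ω _ _ ξ ⟨w, hw, hwξ⟩
  obtain ⟨r, hr⟩ := exists_fiber ξ W w hwξ
  exact ⟨Equiv.ofBijective (fun i => (Scheme.pointSmallEtale ξ).fiber.map (a i) r)
    ⟨(injective_iff a r).2 (hr ▸ (hCG hw).2),
      surjective_of_not_mem_missLocus a r (hr ▸ (hCG hw).1)⟩⟩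

/-- Over a scheme on which the geometric fibres have constant cardinality, the morphism splits étale
locally. -/
theorem exists_split (V : X.Etale) [IsSeparated V.hom] {n : ℕ} (h : FibCard V Set.univ n) (x : X) :
    ∃ (W : X.Etale) (_ : ∃ w : W.left, W.hom.base w = x) (a : Fin n → (W ⟶ V)),
      ∀ (Ω : Type u) [Field Ω] [IsSepClosed Ω] (ξ : Spec (CommRingCat.of Ω) ⟶ X)
        (p : (Scheme.pointSmallEtale ξ).fiber.obj W),
        Function.Bijective fun i => (Scheme.pointSmallEtale ξ).fiber.map (a i) p := by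
  let η := geomPoint X x
  obtain ⟨e⟩ := h _ η trivial
  obtain ⟨u, -⟩ := exists_fiber η (EtCoh.top X) (η.base default) rfl
  obtain ⟨W₀, b₀, p₀, a₀, -, ha₀⟩ := exists_sections η u e
  let O : W₀.left.Opens := ⟨distinctLocus a₀, isOpen_distinctLocus a₀⟩
  have hp₀ : fiberPt p₀ ∈ O :=
    (injective_iff a₀ p₀).1 fun i i' h => e.injective ((ha₀ i).symm.trans (h.trans (ha₀ i')))
  haveI : Etale W₀.hom := W₀.prop
  let W : X.Etale := Scheme.Etale.mk (O.ι ≫ W₀.hom)
  let j : W ⟶ W₀ := MorphismProperty.Over.homMk O.ι rfl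
  refine ⟨W, ⟨⟨fiberPt p₀, hp₀⟩, (hom_fiberPt p₀).trans (geomPoint_apply x default)⟩,
    fun i => j ≫ a₀ i, fun Ω _ _ ξ p => ?_⟩
  obtain ⟨eξ⟩ := h Ω ξ trivial
  haveI : Finite ((Scheme.pointSmallEtale ξ).fiber.obj V) := Finite.of_equiv _ eξ
  have hinj : Function.Injective fun i => (Scheme.pointSmallEtale ξ).fiber.map (j ≫ a₀ i) p := by
    have hmem : fiberPt ((Scheme.pointSmallEtale ξ).fiber.map j p) ∈ distinctLocus a₀ := by
      rw [fiberPt_map]
      exact (fiberPt p : ↥(W.left)).2
    convert (injective_iff a₀ _).2 hmem using 1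
    funext i
    simp
  exact ⟨hinj, hinj.surjective_of_finite eξ⟩

/-- Fibres of base changes. -/
theorem fibCard_bc {T : Scheme.{u}} (g : T ⟶ X) {V : X.Etale} {C : Set X} {n : ℕ}
    (h : FibCard V C n) (hg : Set.range g.base ⊆ C) : FibCard ((EtCoh.bc g).obj V) Set.univ n := by
  intro Ω _ _ ξ _
  obtain ⟨e⟩ := h Ω (ξ ≫ g) (hg ⟨_, rfl⟩)
  refine ⟨e.trans (Equiv.ofBijective (fun p => PushStalk.liftPt g (rfl : ξ ≫ g = ξ ≫ g) V p)
    ⟨fun p p' hp => ?_, fun p' => ?_⟩)⟩
  · apply Over.OverMorphism.ext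
    have := congrArg (fun r => fiberHom r ≫ pullback.fst V.hom g) hp
    exact ((pullback.lift_fst _ _ _).symm.trans this).trans (pullback.lift_fst _ _ _)
  · refine ⟨mkFiber (ξ ≫ g) V (fiberHom p' ≫ pullback.fst V.hom g)
      ((Category.assoc _ _ _).trans ((_ ≫= pullback.condition).trans
        ((Category.assoc _ _ _).symm.trans (congrArg (· ≫ g) (fiberHom_comp p'))))), ?_⟩
    apply Over.OverMorphism.ext
    apply pullback.hom_ext
    · exact pullback.lift_fst _ _ _
    · exact (pullback.lift_snd _ _ _).trans (fiberHom_comp p').symm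

/-- On an affine open of the base, a separated quasi-compact étale morphism splits étale locally over a
constructible immersed neighbourhood of each point. -/
theorem exists_stratum (V : X.Etale) {U : X.Opens} (hU : IsAffineOpen U) [IsSeparated V.hom]
    [QuasiCompact V.hom] (y : ↥(U : Set X)) :
    ∃ (C : Set ↥(U : Set X)) (T : Scheme.{u}) (g : T ⟶ X) (n : ℕ), IsConstructible C ∧ y ∈ C ∧
      IsImmersion g ∧ Subtype.val '' C ⊆ Set.range g.base ∧ FibCard ((EtCoh.bc g).obj V) Set.univ n := by
  haveI : IsAffine (U : Scheme.{u}) := hU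
  haveI : IsSeparated ((EtCoh.bc U.ι).obj V).hom := MorphismProperty.pullback_snd _ _ ‹_›
  haveI : QuasiCompact ((EtCoh.bc U.ι).obj V).hom := MorphismProperty.pullback_snd _ _ ‹_›
  obtain ⟨C₀, n, hC₀, hyC₀, hn⟩ := exists_fibCard ((EtCoh.bc U.ι).obj V) (⟨y.1, y.2⟩ : (U : Scheme.{u}))
  obtain ⟨t, ht, hsat⟩ := exists_saturating hC₀
  let S := Lib.Spectral.Constructible.atom (fun W : {W // W ∈ t} => W.1) {W | (⟨y.1, y.2⟩ : (U : Scheme.{u})) ∈ W.1}
  have hyS : (⟨y.1, y.2⟩ : (U : Scheme.{u})) ∈ S :=
    Lib.Spectral.Constructible.mem_atom (fun W : {W // W ∈ t} => W.1) (⟨y.1, y.2⟩ : (U : Scheme.{u}))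
  have hSC : S ⊆ C₀ := fun z hz => hsat _ z (fun W hW => (hz ⟨W, hW⟩).symm) hyC₀
  have hSc : IsConstructible S := by
    change IsConstructible (Lib.Spectral.Constructible.atom _ _)
    rw [Lib.Spectral.Constructible.atom_eq_inter]
    exact (IsConstructible.biInter (Set.toFinite _) fun i _ =>
      (ht _ i.2).2.isConstructible (ht _ i.2).1).inter (IsConstructible.biInter (Set.toFinite _)
      fun i _ => ((ht _ i.2).2.isConstructible (ht _ i.2).1).compl)
  obtain ⟨T, h, hh, hr⟩ := exists_immersion_range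
    (Lib.Spectral.Constructible.isLocallyClosed_atom (fun W : {W // W ∈ t} => W.1) (fun W => (ht _ W.2).1)
      {W | (⟨y.1, y.2⟩ : (U : Scheme.{u})) ∈ W.1})
  refine ⟨S, T, h ≫ U.ι, n, hSc, hyS, inferInstance, ?_, ?_⟩
  · rintro _ ⟨z, hz, rfl⟩
    obtain ⟨s, hs⟩ := (hr.symm ▸ hz : z ∈ Set.range h.base)
    exact ⟨s, (Scheme.Hom.comp_apply _ _ _).trans (congrArg U.ι.base hs)⟩
  · have h1 := fibCard_bc h hn (hr.trans_subset hSC)
    intro Ω _ _ ξ hξ
    obtain ⟨e⟩ := h1 Ω ξ hξ
    exact ⟨e.trans (((Scheme.pointSmallEtale ξ).fiber.mapIso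
      ((MorphismProperty.Over.pullbackComp (P := EtCoh.etaleMP) (Q := ⊤) h U.ι).symm.app V)).toEquiv)⟩

end Groth.Agent.H88.Strata.Split
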