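import Groth.Agent.H88.Strata.Split
import Groth.Agent.Lib.Unram.FibreCount
import Groth.Agent.Lib.QfhGalois.Basic

/-!
Separated étale morphisms with constant fibre cardinality are finite, and stratifications of
quasi-compact étale morphisms into finite pieces.
-/

set_option autoImplicit false
set_option linter.style.haveILetI false

universe u

open CategoryTheory CategoryTheory.Limits AlgebraicGeometry Topology Opposite

noncomputable section

namespace Groth.Agent.H88.Strata.Finite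

open Groth.Agent.Lib.EtSite Groth.Agent.Lib.EtSite.Basic Groth.Agent.H54.GeomLift

variable {X : Scheme.{u}}

theorem isFinite_of_fibCard (V : X.Etale) [IsSeparated V.hom] [QuasiCompact V.hom] {n : ℕ}
    (h : Split.FibCard V Set.univ n) : IsFinite V.hom := by
  haveI : Etale V.hom := V.prop
  have key : ∀ y : X, ENat.card ↥(MoreMor.geomFiber V.hom y) = n := fun y => by
    obtain ⟨k, _, _, η, rfl⟩ := exists_pt_eq y
    obtain ⟨e⟩ := h k η trivial
    let f : (Scheme.pointSmallEtale η).fiber.obj V ≃ Lift V.hom η :=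
      { toFun := fun q => ⟨fiberHom q, fiberHom_comp q⟩
        invFun := fun s => mkFiber η V s.1 s.2
        left_inv := fun q => Over.OverMorphism.ext rfl
        right_inv := fun s => Subtype.ext rfl }
    refine (Lib.Unram.GeomCount.card_geomFiber V.hom η).trans ?_
    exact (ENat.card_congr (e.trans f).symm).trans (by simp)
  choose W hW hfin using fun y => (Lib.Unram.FibreCount.exists_nhd_eq_iff V.hom y).1
    ⟨⊤, trivial, fun y' _ => (key y').trans (key y).symm⟩
  exact IsZariskiLocalAtTarget.of_iSup_eq_top (P := @IsFinite) W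
    (eq_top_iff.2 fun y _ => TopologicalSpace.Opens.mem_iSup.2 ⟨y, hW y⟩) hfin

theorem isFinite_precomp {U T T' : Scheme.{u}} (j : U ⟶ X) (g : T ⟶ X) (h : T' ⟶ T)
    [IsFinite (pullback.snd j g)] : IsFinite (pullback.snd j (h ≫ g)) := by
  let e := pullbackLeftPullbackSndIso j g h
  have he : e.hom ≫ pullback.snd j (h ≫ g) = pullback.snd (pullback.snd j g) h := by simp [e]
  refine (MorphismProperty.cancel_left_of_respectsIso @IsFinite e.hom _).1 ?_
  rw [he]
  exact MorphismProperty.pullback_snd _ _ ‹_›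

theorem isFinite_of_cover {U T : Scheme.{u}} (f : U ⟶ T) {m : ℕ} (O : Fin m → U.Opens)
    (hO : ⨆ i, O i = ⊤) (hfin : ∀ i, IsFinite ((O i).ι ≫ f))
    (hfin₂ : ∀ i i', IsFinite ((O i ⊓ O i').ι ≫ f)) : IsFinite f := by
  classical
  have hcl : ∀ i i', IsClosed ((O i).ι ⁻¹' (O i' : Set U)) := fun i i' => by
    let e := U.homOfLE (inf_le_left : O i ⊓ O i' ≤ O i)
    have he : e ≫ (O i).ι = (O i ⊓ O i').ι := U.homOfLE_ι _
    haveI := hfin i
    haveI : IsFinite (e ≫ (O i).ι ≫ f) := by rw [reassoc_of% he]; exact hfin₂ i i'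
    haveI : IsFinite e := IsFinite.of_comp e ((O i).ι ≫ f)
    convert e.isClosedMap.isClosed_range using 1
    ext z
    refine ⟨fun hz => ⟨⟨z.1, z.2, hz⟩, Subtype.ext ?_⟩, ?_⟩
    · exact congr($he ⟨z.1, z.2, hz⟩)
    · rintro ⟨w, rfl⟩
      show (O i).ι (e w) ∈ O i'
      rw [← Scheme.Hom.comp_apply, he]
      exact w.2.2
  let D' : ∀ i, (O i : Scheme.{u}).Opens := fun i =>
    ⟨⋂ (i' : Fin m) (_ : i' < i), ((O i).ι ⁻¹' (O i' : Set U))ᶜ,
      isOpen_iInter_of_finite fun i' => isOpen_iInter_of_finite fun _ => (hcl i i').isOpen_compl⟩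
  have hD' : ∀ i, IsClosed (D' i : Set (O i : Scheme.{u})) := fun i =>
    isClosed_biInter fun i' _ => ((O i').2.preimage (O i).ι.continuous).isClosed_compl
  let a : ∀ i : ULift.{u} (Fin m), (D' i.down : Scheme.{u}) ⟶ U :=
    fun i => (D' i.down).ι ≫ (O i.down).ι
  have ha : ∀ i, IsFinite (a i ≫ f) := fun i => by
    haveI := hfin i.down
    haveI : IsClosedImmersion (D' i.down).ι :=
      .of_isPreimmersion _ (by rw [Scheme.Opens.range_ι]; exact hD' _)
    change IsFinite (((D' i.down).ι ≫ (O i.down).ι) ≫ f)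
    rw [Category.assoc]
    infer_instance
  have hdisj : Pairwise (Function.onFun Disjoint fun i => Set.range (a i)) := by
    intro i k hik
    rw [Function.onFun, Set.disjoint_left]
    rintro _ ⟨z, rfl⟩ ⟨w, hw⟩
    rcases lt_trichotomy i.down k.down with h | h | h
    · exact Set.mem_iInter₂.1 w.2 i.down h (show (O k.down).ι w.1 ∈ O i.down from
        (show (O k.down).ι w.1 = (O i.down).ι z.1 from hw) ▸ z.1.2)
    · exact hik (ULift.ext _ _ h)
    · exact Set.mem_iInter₂.1 z.2 k.down h (show (O i.down).ι z.1 ∈ O k.down from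
        (show (O k.down).ι w.1 = (O i.down).ι z.1 from hw) ▸ w.1.2)
  haveI := isOpenImmersion_sigmaDesc _ a hdisj
  have hcov : ∀ x : U, ∃ i, x ∈ Set.range (a i) := fun x => by
    have hne : (Finset.univ.filter fun i => x ∈ O i).Nonempty := by
      obtain ⟨i, hi⟩ := TopologicalSpace.Opens.mem_iSup.1 (show x ∈ ⨆ i, O i from hO.symm ▸ trivial)
      exact ⟨i, Finset.mem_filter.2 ⟨Finset.mem_univ _, hi⟩⟩
    let i := Finset.min' _ hne
    have hi : x ∈ O i := (Finset.mem_filter.1 (Finset.min'_mem _ hne)).2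
    refine ⟨ULift.up i, ⟨⟨x, hi⟩, Set.mem_iInter₂.2 fun i' hi' hx => ?_⟩, rfl⟩
    exact absurd (Finset.min'_le _ i' (Finset.mem_filter.2 ⟨Finset.mem_univ _, hx⟩)) (not_le.2 hi')
  haveI : Surjective (Sigma.desc a) := ⟨fun x => by
    obtain ⟨i, z, hz⟩ := hcov x
    exact ⟨Sigma.ι (fun i : ULift.{u} (Fin m) => (D' i.down : Scheme.{u})) i z,
      (congr($(Sigma.ι_desc a i) z)).trans hz⟩⟩
  haveI : IsIso (Sigma.desc a) := isIso_of_isOpenImmersion_of_opensRange_eq_top _
    (TopologicalSpace.Opens.ext (Sigma.desc a).surjective.range_eq)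
  have : Sigma.desc a ≫ f = Sigma.desc fun i => a i ≫ f := by
    ext i
    simp
  exact (MorphismProperty.cancel_left_of_respectsIso @IsFinite (Sigma.desc a) f).1
    (by rw [this]; exact Lib.QfhGalois.isFinite_sigmaDesc _ ha)

theorem exists_common_stratum {Y : X.Opens} (hY : IsAffineOpen Y) (y : ↥(Y : Set X)) {ι : Type*}
    (V : ι → X.Etale) (hs : ∀ i, IsSeparated (V i).hom) (hq : ∀ i, QuasiCompact (V i).hom)
    (s : Finset ι) :
    ∃ (C : Set ↥(Y : Set X)) (T : Scheme.{u}) (g : T ⟶ X), IsConstructible C ∧ y ∈ C ∧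
      IsImmersion g ∧ Subtype.val '' C ⊆ Set.range g.base ∧
      ∀ i ∈ s, IsFinite (pullback.snd (V i).hom g) := by
  classical
  induction s using Finset.induction with
  | empty => exact ⟨Set.univ, X, 𝟙 X, .univ, trivial, inferInstance, by simp, by simp⟩
  | insert k s _ ih =>
    obtain ⟨C₁, T₁, g₁, hC₁, hy₁, hg₁, hC₁g, hfin₁⟩ := ih
    haveI := hs k; haveI := hq k
    obtain ⟨C₂, T₂, g₂, n, hC₂, hy₂, hg₂, hC₂g, hn⟩ := Split.exists_stratum (V k) hY y
    haveI : IsSeparated ((EtCoh.bc g₂).obj (V k)).hom := MorphismProperty.pullback_snd _ _ ‹_›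
    haveI : QuasiCompact ((EtCoh.bc g₂).obj (V k)).hom := MorphismProperty.pullback_snd _ _ ‹_›
    have hfin₂ : IsFinite (pullback.snd (V k).hom g₂) := isFinite_of_fibCard _ hn
    refine ⟨C₁ ∩ C₂, pullback g₁ g₂, pullback.fst g₁ g₂ ≫ g₁, hC₁.inter hC₂, ⟨hy₁, hy₂⟩,
      inferInstance, ?_, ?_⟩
    · rintro _ ⟨z, ⟨h₁, h₂⟩, rfl⟩
      obtain ⟨a, ha⟩ := hC₁g ⟨z, h₁, rfl⟩
      obtain ⟨b, hb⟩ := hC₂g ⟨z, h₂, rfl⟩
      obtain ⟨w, hw, -⟩ := Scheme.Pullback.exists_preimage_pullback a b (ha.trans hb.symm)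
      exact ⟨w, (Scheme.Hom.comp_apply _ _ _).trans ((congrArg g₁ hw).trans ha)⟩
    · intro i hi
      rcases Finset.mem_insert.1 hi with rfl | hi
      · rw [pullback.condition]
        exact isFinite_precomp _ g₂ _
      · haveI := hfin₁ i hi
        exact isFinite_precomp _ g₁ _

end Groth.Agent.H88.Strata.Finite
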